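import Mathlib
import Cfsg.Prelude.Def_ClassicalGeometry

/-!
Stabilisers in `GL_n` of the coordinate subspaces: membership, the order, transvections, maximality.
-/

set_option autoImplicit false

namespace CfsgLib.CoordSub

open Matrix

variable {F : Type*} [Field F] {n : ℕ}

/-- The span of the first `k` coordinate vectors. -/
def coordSub (F : Type*) [Field F] (n k : ℕ) : Submodule F (Fin n → F) where
  carrier := {v | ∀ i : Fin n, k ≤ (i : ℕ) → v i = 0}
  zero_mem' := fun _ _ => rfl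
  add_mem' {a b} ha hb := fun i hi => by simp [ha i hi, hb i hi]
  smul_mem' c v hv := fun i hi => by simp [hv i hi]

theorem mem_stab_iff (k : ℕ) (g : GL (Fin n) F) :
    g ∈ Cfsg.stabilizing (Cfsg.glToMat (Fin n) F) {v : Fin n → F | ∀ i : Fin n, k ≤ (i : ℕ) → v i = 0}
      ↔ ∀ i j : Fin n, k ≤ (i : ℕ) → (j : ℕ) < k → (g : Matrix (Fin n) (Fin n) F) i j = 0 := by
  constructor
  · intro h i j hi hj
    have hmem : (Pi.single j 1 : Fin n → F) ∈ {v : Fin n → F | ∀ i : Fin n, k ≤ (i : ℕ) → v i = 0} :=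
      fun l hl => by
        have : l ≠ j := fun e => by subst e; omega
        simp [this]
    have := (h (Pi.single j 1)).mp hmem i hi
    simpa using this
  · intro h
    have hmaps : ∀ v ∈ coordSub F n k, (g : Matrix (Fin n) (Fin n) F) *ᵥ v ∈ coordSub F n k := by
      intro v hv i hi
      show ∑ j, (g : Matrix (Fin n) (Fin n) F) i j * v j = 0
      refine Finset.sum_eq_zero fun j _ => ?_
      by_cases hj : (j : ℕ) < k
      · simp [h i j hi hj]
      · simp [hv j (not_lt.mp hj)]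
    let L : coordSub F n k →ₗ[F] coordSub F n k :=
      (Matrix.toLin' (g : Matrix (Fin n) (Fin n) F)).restrict (p := coordSub F n k)
        (q := coordSub F n k) fun v hv => by simpa using hmaps v hv
    have hinj : Function.Injective (fun v : Fin n → F => (g : Matrix (Fin n) (Fin n) F) *ᵥ v) :=
      Function.LeftInverse.injective (g := fun v => ((g⁻¹ : GL (Fin n) F) : Matrix (Fin n) (Fin n) F) *ᵥ v)
        fun v => by simp [mulVec_mulVec, ← Units.val_mul]
    have hL : Function.Surjective L := (LinearMap.injective_iff_surjective).mp fun a b hab => by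
      refine Subtype.ext (hinj ?_)
      simpa [L] using congrArg Subtype.val hab
    intro v
    refine ⟨fun hv => hmaps v hv, fun hv => ?_⟩
    obtain ⟨⟨w, hw⟩, hLw⟩ := hL ⟨_, hv⟩
    have : w = v := hinj (by simpa [L] using congrArg Subtype.val hLw)
    exact this ▸ hw

/-! ### The order of the stabiliser -/

theorem card_blockUpper [Fintype F] (k l : ℕ) :
    Nat.card {g : GL (Fin k ⊕ Fin l) F // (g : Matrix (Fin k ⊕ Fin l) (Fin k ⊕ Fin l) F).toBlocks₂₁ = 0}
      = Nat.card (GL (Fin k) F) * Nat.card (GL (Fin l) F) * Fintype.card F ^ (k * l) := by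
  classical
  have e : {g : GL (Fin k ⊕ Fin l) F //
      (g : Matrix (Fin k ⊕ Fin l) (Fin k ⊕ Fin l) F).toBlocks₂₁ = 0} ≃
      (GL (Fin k) F × GL (Fin l) F) × Matrix (Fin k) (Fin l) F := by
    refine
      { toFun := fun g => ((GeneralLinearGroup.mkOfDetNeZero (g.1.val : Matrix (Fin k ⊕ Fin l) (Fin k ⊕ Fin l) F).toBlocks₁₁ ?_,
          GeneralLinearGroup.mkOfDetNeZero (g.1.val : Matrix (Fin k ⊕ Fin l) (Fin k ⊕ Fin l) F).toBlocks₂₂ ?_),
          (g.1.val : Matrix (Fin k ⊕ Fin l) (Fin k ⊕ Fin l) F).toBlocks₁₂)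
        invFun := fun p => ⟨GeneralLinearGroup.mkOfDetNeZero
          (Matrix.fromBlocks p.1.1.val p.2 0 p.1.2.val) ?_, ?_⟩
        left_inv := ?_
        right_inv := ?_ }
    rotate_right 2
    · intro g
      apply Subtype.ext
      apply Units.ext
      show Matrix.fromBlocks _ _ 0 _ = _
      conv_rhs => rw [← Matrix.fromBlocks_toBlocks (g.1 : Matrix (Fin k ⊕ Fin l) (Fin k ⊕ Fin l) F), g.2]
      rfl
    · rintro ⟨⟨A, D⟩, B⟩
      refine Prod.ext (Prod.ext (Units.ext ?_) (Units.ext ?_)) ?_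
      · exact Matrix.toBlocks_fromBlocks₁₁ _ _ _ _
      · exact Matrix.toBlocks_fromBlocks₂₂ _ _ _ _
      · exact Matrix.toBlocks_fromBlocks₁₂ _ _ _ _
    · intro h0
      have := (GeneralLinearGroup.det g.1).ne_zero
      apply this
      rw [GeneralLinearGroup.val_det_apply,
        ← Matrix.fromBlocks_toBlocks (g.1 : Matrix (Fin k ⊕ Fin l) (Fin k ⊕ Fin l) F), g.2,
        Matrix.det_fromBlocks_zero₂₁, h0, zero_mul]
    · intro h0
      have := (GeneralLinearGroup.det g.1).ne_zero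
      apply this
      rw [GeneralLinearGroup.val_det_apply,
        ← Matrix.fromBlocks_toBlocks (g.1 : Matrix (Fin k ⊕ Fin l) (Fin k ⊕ Fin l) F), g.2,
        Matrix.det_fromBlocks_zero₂₁, h0, mul_zero]
    · rw [Matrix.det_fromBlocks_zero₂₁]
      exact mul_ne_zero (GeneralLinearGroup.det p.1.1).ne_zero (GeneralLinearGroup.det p.1.2).ne_zero
    · exact Matrix.toBlocks_fromBlocks₂₁ _ _ _ _
  rw [Nat.card_congr e, Nat.card_prod, Nat.card_prod]
  congr 1
  unfold Matrix
  rw [Nat.card_fun, Nat.card_fun, Nat.card_fin, Nat.card_fin, Nat.card_eq_fintype_card, ← pow_mul,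
    mul_comm]

theorem card_stab [Fintype F] {k : ℕ} (hk : k ≤ n) :
    Nat.card ↥(Cfsg.stabilizing (Cfsg.glToMat (Fin n) F)
        {v : Fin n → F | ∀ i : Fin n, k ≤ (i : ℕ) → v i = 0})
      = Nat.card (GL (Fin k) F) * Nat.card (GL (Fin (n - k)) F) * Fintype.card F ^ (k * (n - k)) := by
  classical
  rw [← card_blockUpper]
  let e : Fin k ⊕ Fin (n - k) ≃ Fin n := finSumFinEquiv.trans (finCongr (Nat.add_sub_cancel' hk))
  have hel : ∀ i : Fin k, ((e (.inl i) : Fin n) : ℕ) = i := fun i => by simp [e]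
  have her : ∀ i : Fin (n - k), ((e (.inr i) : Fin n) : ℕ) = k + i := fun i => by simp [e]
  refine Nat.card_congr (Equiv.subtypeEquiv
    (Units.mapEquiv (Matrix.reindexAlgEquiv F F e.symm).toMulEquiv).toEquiv fun g => ?_)
  rw [mem_stab_iff]
  constructor
  · intro h
    ext a b
    exact h (e (.inr a)) (e (.inl b)) (by rw [her]; omega) (by rw [hel]; omega)
  · intro h i j hi hj
    obtain ⟨i', rfl⟩ := e.surjective i
    obtain ⟨j', rfl⟩ := e.surjective j
    rcases i' with a | a
    · rw [hel] at hi; omega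
    rcases j' with b | b
    swap
    · rw [her] at hj; omega
    exact congrFun (congrFun h a) b

/-! ### Transvections -/

/-- The transvection `x ↦ x + (φ ⬝ x) w`, `φ ⬝ w = 0`, as an element of `GL`. -/
def tv (w φ : Fin n → F) (h : φ ⬝ᵥ w = 0) : GL (Fin n) F where
  val := 1 + vecMulVec w φ
  inv := 1 - vecMulVec w φ
  val_inv := by
    simp [mul_sub, add_mul, vecMulVec_mul_vecMulVec, h]
  inv_val := by
    simp [sub_mul, mul_add, vecMulVec_mul_vecMulVec, h]

theorem tv_mulVec (w φ : Fin n → F) (h : φ ⬝ᵥ w = 0) (x : Fin n → F) :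
    (tv w φ h : Matrix (Fin n) (Fin n) F) *ᵥ x = x + (φ ⬝ᵥ x) • w := by
  simp [tv, add_mulVec, vecMulVec_mulVec]

theorem tv_entry (w φ : Fin n → F) (h : φ ⬝ᵥ w = 0) {i j : Fin n} (hij : i ≠ j) :
    (tv w φ h : Matrix (Fin n) (Fin n) F) i j = w i * φ j := by
  simp [tv, hij, vecMulVec_apply]

theorem conj_tv (g : GL (Fin n) F) (w φ : Fin n → F) (h : φ ⬝ᵥ w = 0) :
    ((g * tv w φ h * g⁻¹ : GL (Fin n) F) : Matrix (Fin n) (Fin n) F) =
      1 + vecMulVec ((g : Matrix (Fin n) (Fin n) F) *ᵥ w) (φ ᵥ* ((g⁻¹ : GL (Fin n) F) : Matrix (Fin n) (Fin n) F)) := by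
  simp only [Units.val_mul, tv, mul_add, add_mul, mul_one, Units.mul_inv]
  rw [Matrix.mul_vecMulVec, Matrix.vecMulVec_mul]

/-- A transvection with centre in the subspace or axis containing it stabilises the subspace. -/
theorem tv_mem_stab (k : ℕ) (w φ : Fin n → F) (h : φ ⬝ᵥ w = 0)
    (hc : (∀ i : Fin n, k ≤ (i : ℕ) → w i = 0) ∨ ∀ j : Fin n, (j : ℕ) < k → φ j = 0) :
    tv w φ h ∈ Cfsg.stabilizing (Cfsg.glToMat (Fin n) F)
      {v : Fin n → F | ∀ i : Fin n, k ≤ (i : ℕ) → v i = 0} := by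
  rw [mem_stab_iff]
  intro i j hi hj
  have hij : i ≠ j := fun e => by subst e; omega
  rw [tv_entry w φ h hij]
  rcases hc with hc | hc
  · rw [hc i hi, zero_mul]
  · rw [hc j hj, mul_zero]

/-- A subspace invariant under the stabiliser of `coordSub k` is trivial, the subspace, or everything. -/
theorem invariant_subspace (k : ℕ) (U : Submodule F (Fin n → F))
    (hU : ∀ g ∈ Cfsg.stabilizing (Cfsg.glToMat (Fin n) F)
      {v : Fin n → F | ∀ i : Fin n, k ≤ (i : ℕ) → v i = 0}, ∀ v ∈ U,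
      (g : Matrix (Fin n) (Fin n) F) *ᵥ v ∈ U) :
    U = ⊥ ∨ U = coordSub F n k ∨ U = ⊤ := by
  classical
  by_cases hle : U ≤ coordSub F n k
  · by_cases h0 : U = ⊥
    · exact Or.inl h0
    refine Or.inr (Or.inl (le_antisymm hle fun w hw => ?_))
    obtain ⟨u, hu, hu0⟩ := Submodule.exists_mem_ne_zero_of_ne_bot h0
    obtain ⟨i, hi⟩ : ∃ i, u i ≠ 0 := Function.ne_iff.mp hu0
    set w' := w - (w i / u i) • u with hw'
    have hw'i : w' i = 0 := by simp [hw', hi]
    have hw'S : w' ∈ coordSub F n k := Submodule.sub_mem _ hw (Submodule.smul_mem _ _ (hle hu))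
    have h := hU (tv w' (Pi.single i (u i)⁻¹) (by simp [hw'i]))
      (tv_mem_stab k _ _ _ (Or.inl hw'S)) u hu
    rw [tv_mulVec, single_dotProduct, inv_mul_cancel₀ hi, one_smul] at h
    have h' := U.sub_mem h hu
    rw [add_sub_cancel_left] at h'
    have := U.add_mem h' (U.smul_mem (w i / u i) hu)
    simpa [hw'] using this
  · refine Or.inr (Or.inr ?_)
    obtain ⟨x, hx, hxS⟩ := SetLike.not_le_iff_exists.mp hle
    obtain ⟨i, hik, hi⟩ : ∃ i : Fin n, k ≤ (i : ℕ) ∧ x i ≠ 0 := by
      by_contra h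
      push Not at h
      exact hxS h
    rw [eq_top_iff]
    intro w _
    set w' := w - (w i / x i) • x with hw'
    have hw'i : w' i = 0 := by simp [hw', hi]
    have h := hU (tv w' (Pi.single i (x i)⁻¹) (by simp [hw'i]))
      (tv_mem_stab k _ _ _ (Or.inr fun j hj => by
        have : j ≠ i := fun e => by subst e; omega
        simp [this])) x hx
    rw [tv_mulVec, single_dotProduct, inv_mul_cancel₀ hi, one_smul] at h
    have h' := U.sub_mem h hx
    rw [add_sub_cancel_left] at h'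
    have := U.add_mem h' (U.smul_mem (w i / x i) hx)
    simpa [hw'] using this

end CfsgLib.CoordSub
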