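import Cfsg.Agent.Lib.Forms.Classify
import Cfsg.Agent.Lib.Classical.Herm.Field
import Cfsg.Prelude.Def_LieClassical
import Cfsg.Prelude.Def_ClassicalGeometry

/-!
The stabiliser of a non-degenerate subspace in the unitary group is `GU_k × GU_{n-k}`.
-/

set_option autoImplicit false

namespace CfsgLib.CoordSub

open Matrix Module Cfsg
open CfsgLib.Classical.Herm (qPow qPow_apply qPow_qPow exists_qPow_ne two_le_of_card)

variable {F : Type*} [Field F] [Fintype F] {q n : ℕ}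

/-- An orthonormal basis adapted to a non-degenerate subspace, as a matrix with its inverse. -/
theorem exists_adapted (hF : Fintype.card F = q ^ 2) {k : ℕ} (hk : k ≤ n) (W : Submodule F (Fin n → F))
    (hWk : finrank F W = k) (hW : ∀ u ∈ W, (∀ v ∈ W, hermForm n F q u v = 0) → u = 0) :
    ∃ (P : Matrix (Fin n) (Fin k ⊕ Fin (n - k)) F) (Ps : Matrix (Fin k ⊕ Fin (n - k)) (Fin n) F),
      Ps * P = 1 ∧ P * Ps = 1 ∧ (∀ v, v ∈ W ↔ ∀ t, (Ps *ᵥ v) (.inr t) = 0) ∧
      ∀ u v, hermForm n F q (P *ᵥ u) (P *ᵥ v) =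
        hermForm k F q (u ∘ Sum.inl) (v ∘ Sum.inl) + hermForm (n - k) F q (u ∘ Sum.inr) (v ∘ Sum.inr) := by
  classical
  have hq0 : q ≠ 0 := by have := two_le_of_card hF; omega
  set σ : F →+* F := qPow hF with hσdef
  have hσq : ∀ a : F, σ a = a ^ q := qPow_apply hF
  have hσ2 : ∀ a, σ (σ a) = a := qPow_qPow hF
  have hσne : σ ≠ RingHom.id F := fun h => by
    obtain ⟨a, ha⟩ := exists_qPow_ne hF
    exact ha (by rw [← hσdef, h]; rfl)
  -- the form, linear in the second variable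
  let B : (Fin n → F) →ₛₗ[σ] (Fin n → F) →ₗ[F] F :=
    LinearMap.mk₂'ₛₗ σ (RingHom.id F) (fun x y => ∑ i, σ (x i) * y i)
      (fun x x' y => by simp [map_add, add_mul, Finset.sum_add_distrib])
      (fun c x y => by simp [map_mul, Finset.mul_sum, mul_assoc])
      (fun x y y' => by simp [mul_add, Finset.sum_add_distrib])
      (fun c x y => by simp [Finset.mul_sum, mul_left_comm])
  have hB : ∀ x y, B x y = ∑ i, σ (x i) * y i := fun _ _ => rfl
  have hBh : ∀ x y, B x y = hermForm n F q y x := fun x y => by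
    rw [hB]; exact Finset.sum_congr rfl fun i _ => by rw [hσq, mul_comm]
  have hS : B.IsSymm := ⟨fun x y => by
    rw [hB, hB, map_sum]
    exact Finset.sum_congr rfl fun i _ => by rw [map_mul, hσ2, mul_comm]⟩
  have hsy : ∀ x y, σ (B x y) = B y x := fun x y => hS.eq x y
  have h0 : ∀ x y, B x y = 0 → B y x = 0 := fun x y h => by rw [← hsy, h, map_zero]
  obtain ⟨b, hbspan, hb⟩ := CfsgLib.Forms.exists_orthonormal_family B hσne hσ2 hS k W hWk
    (fun x hx h => hW x hx fun v hv => by rw [← hBh]; exact h0 _ _ (h v hv))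
  have hbW : ∀ i, b i ∈ W := fun i => hbspan ▸ Submodule.subset_span (Set.mem_range_self i)
  let L : (Fin n → F) →ₗ[F] (Fin k → F) := LinearMap.pi fun i => B (b i)
  have hL : Function.Surjective L := fun c =>
    ⟨∑ i, c i • b i, funext fun j => by simp [L, map_sum, map_smul, hb]⟩
  set W' := LinearMap.ker L with hW'def
  have hW'k : finrank F W' = n - k := by
    have := LinearMap.finrank_range_add_finrank_ker L
    rw [LinearMap.range_eq_top.mpr hL, finrank_top, ← hW'def, finrank_fintype_fun_eq_card,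
      finrank_fintype_fun_eq_card, Fintype.card_fin, Fintype.card_fin] at this
    omega
  have hmemW' : ∀ x, x ∈ W' → ∀ i, B (b i) x = 0 := fun x hx i => congrFun (LinearMap.mem_ker.mp hx) i
  have hnd : ∀ x ∈ W', (∀ y ∈ W', B x y = 0) → x = 0 := by
    intro x hx h
    funext i
    have hyW : Pi.single i 1 - ∑ j, B (b j) (Pi.single i 1) • b j ∈ W' :=
      LinearMap.mem_ker.mpr (funext fun l => by simp [L, map_sub, map_sum, map_smul, hb])
    have h1 := h _ hyW
    rw [map_sub, map_sum, sub_eq_zero] at h1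
    simp only [map_smul, h0 _ _ (hmemW' x hx _), smul_zero, Finset.sum_const_zero] at h1
    rw [hB, Finset.sum_eq_single i (fun j _ hj => by simp [hj]) (by simp)] at h1
    simpa using (map_eq_zero σ).mp (by simpa using h1)
  obtain ⟨b', hb'span, hb'⟩ := CfsgLib.Forms.exists_orthonormal_family B hσne hσ2 hS (n - k) W' hW'k hnd
  have hb'W : ∀ i, b' i ∈ W' := fun i => hb'span ▸ Submodule.subset_span (Set.mem_range_self i)
  let c : Fin k ⊕ Fin (n - k) → Fin n → F := Sum.elim b b'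
  have hc : ∀ s t, B (c s) (c t) = if s = t then 1 else 0 := by
    rintro (s | s) (t | t)
    · simp [c, hb]
    · simp [c, hmemW' _ (hb'W t) s]
    · simp [c, h0 _ _ (hmemW' _ (hb'W s) t)]
    · simp [c, hb']
  let P : Matrix (Fin n) (Fin k ⊕ Fin (n - k)) F := Matrix.of fun i s => c s i
  let Ps : Matrix (Fin k ⊕ Fin (n - k)) (Fin n) F := Matrix.of fun s i => σ (c s i)
  have hPsP : Ps * P = 1 := by
    ext s t
    rw [mul_apply, one_apply, ← hc, hB]
    rfl
  have hPPs : P * Ps = 1 :=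
    (mul_eq_one_comm_of_equiv
      ((finSumFinEquiv.trans (finCongr (Nat.add_sub_cancel' hk))).symm) ).mpr hPsP
  have hPcol : ∀ u, P *ᵥ u = ∑ s, u s • c s := fun u => by
    funext i
    simp [P, mulVec, dotProduct, mul_comm]
  have hPs : ∀ v s, (Ps *ᵥ v) s = B (c s) v := fun v s => rfl
  refine ⟨P, Ps, hPsP, hPPs, fun v => ⟨fun hv t => ?_, fun h => ?_⟩, fun u v => ?_⟩
  · rw [hPs]
    rw [← hbspan] at hv
    induction hv using Submodule.span_induction with
    | mem x hx =>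
      obtain ⟨i, rfl⟩ := hx
      exact h0 _ _ (hmemW' _ (hb'W t) i)
    | zero => rw [map_zero]
    | add x y _ _ hx hy => rw [map_add, hx, hy, add_zero]
    | smul a x _ hx => rw [map_smul, hx, smul_zero]
  · have hv : v = P *ᵥ (Ps *ᵥ v) := by rw [mulVec_mulVec, hPPs, one_mulVec]
    rw [hv, hPcol, Fintype.sum_sum_type]
    simp only [h, zero_smul, Finset.sum_const_zero, add_zero]
    exact W.sum_mem fun i _ => W.smul_mem _ (hbW i)
  · have key : B (P *ᵥ v) (P *ᵥ u) = ∑ s, σ (v s) * u s := by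
      rw [hPcol, hPcol]
      simp [hc, mul_comm]
    rw [hBh] at key
    rw [key, Fintype.sum_sum_type]
    simp only [hermForm, Function.comp_apply, hσq, mul_comm]

variable {k : ℕ}

/-- Block diagonal matrices transported by a pair of mutually inverse matrices. -/
def blockConj (P : Matrix (Fin n) (Fin k ⊕ Fin (n - k)) F) (Ps : Matrix (Fin k ⊕ Fin (n - k)) (Fin n) F)
    (h1 : Ps * P = 1) (h2 : P * Ps = 1) : GL (Fin k) F × GL (Fin (n - k)) F →* GL (Fin n) F :=
  MonoidHom.toHomUnits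
    { toFun := fun g => P * (fromBlocks (g.1 : Matrix (Fin k) (Fin k) F) 0 0
        (g.2 : Matrix (Fin (n - k)) (Fin (n - k)) F)) * Ps
      map_one' := by simp [h2]
      map_mul' := fun g g' => by
        have e : ∀ X Y : Matrix (Fin k ⊕ Fin (n - k)) (Fin k ⊕ Fin (n - k)) F,
            P * X * Ps * (P * Y * Ps) = P * (X * Y) * Ps := fun X Y => by
          calc P * X * Ps * (P * Y * Ps) = P * X * (Ps * P) * Y * Ps := by simp only [Matrix.mul_assoc]
            _ = P * (X * Y) * Ps := by rw [h1, Matrix.mul_one]; simp only [Matrix.mul_assoc]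
        rw [e, fromBlocks_multiply]
        simp }

theorem nonempty_stab_equiv (hF : Fintype.card F = q ^ 2) (hk : k ≤ n) (W : Submodule F (Fin n → F))
    (hWk : finrank F W = k) (hW : ∀ u ∈ W, (∀ v ∈ W, hermForm n F q u v = 0) → u = 0) :
    Nonempty (↥((stabilizing (glToMat (Fin n) F) (W : Set (Fin n → F))).subgroupOf (GU n F q)) ≃*
      ↥(GU k F q) × ↥(GU (n - k) F q)) := by
  classical
  have hq0 : q ≠ 0 := by have := two_le_of_card hF; omega
  obtain ⟨P, Ps, h1, h2, hmem, hform⟩ := exists_adapted hF hk W hWk hW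
  set Φ := blockConj P Ps h1 h2 with hΦdef
  have hΦ : ∀ g, (Φ g : Matrix (Fin n) (Fin n) F) = P * fromBlocks (g.1 : Matrix (Fin k) (Fin k) F) 0 0
      (g.2 : Matrix (Fin (n - k)) (Fin (n - k)) F) * Ps := fun g => rfl
  have hPsΦ : ∀ g v, Ps *ᵥ ((Φ g : Matrix (Fin n) (Fin n) F) *ᵥ v) =
      fromBlocks (g.1 : Matrix (Fin k) (Fin k) F) 0 0 (g.2 : Matrix (Fin (n - k)) (Fin (n - k)) F) *ᵥ (Ps *ᵥ v) := fun g v => by
    simp only [hΦ, mulVec_mulVec, ← Matrix.mul_assoc, h1, Matrix.one_mul]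
  have hbl : ∀ (g : GL (Fin k) F × GL (Fin (n - k)) F) x,
      fromBlocks (g.1 : Matrix (Fin k) (Fin k) F) 0 0 (g.2 : Matrix (Fin (n - k)) (Fin (n - k)) F) *ᵥ x =
        Sum.elim ((g.1 : Matrix (Fin k) (Fin k) F) *ᵥ (x ∘ Sum.inl)) ((g.2 : Matrix (Fin (n - k)) (Fin (n - k)) F) *ᵥ (x ∘ Sum.inr)) := by
    intro g x
    rw [fromBlocks_mulVec]; simp
  let ι : ↥(GU k F q) × ↥(GU (n - k) F q) →* GL (Fin k) F × GL (Fin (n - k)) F :=
    (GU k F q).subtype.prodMap (GU (n - k) F q).subtype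
  have hstab : ∀ g, Φ g ∈ stabilizing (glToMat (Fin n) F) (W : Set (Fin n → F)) := by
    intro g v
    show v ∈ W ↔ (Φ g : Matrix (Fin n) (Fin n) F) *ᵥ v ∈ W
    rw [hmem, hmem, hPsΦ, hbl]
    simp only [Sum.elim_inr]
    constructor
    · intro h t
      rw [show (Ps *ᵥ v) ∘ Sum.inr = 0 from funext h, mulVec_zero]
      rfl
    · intro h t
      have h' : (g.2 : Matrix (Fin (n - k)) (Fin (n - k)) F) *ᵥ ((Ps *ᵥ v) ∘ Sum.inr) = 0 := funext h
      have := congrArg (((g.2⁻¹ : GL (Fin (n - k)) F) : Matrix (Fin (n - k)) (Fin (n - k)) F) *ᵥ ·) h'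
      simp only [mulVec_mulVec, mulVec_zero, Units.inv_mul, one_mulVec] at this
      exact congrFun this t
  have hgu : ∀ g : ↥(GU k F q) × ↥(GU (n - k) F q), Φ (ι g) ∈ GU n F q := by
    intro g u v
    show hermForm n F q ((Φ (ι g) : Matrix (Fin n) (Fin n) F) *ᵥ u)
      ((Φ (ι g) : Matrix (Fin n) (Fin n) F) *ᵥ v) = hermForm n F q u v
    conv_rhs => rw [show u = P *ᵥ (Ps *ᵥ u) by rw [mulVec_mulVec, h2, one_mulVec],
      show v = P *ᵥ (Ps *ᵥ v) by rw [mulVec_mulVec, h2, one_mulVec], hform]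
    rw [show ∀ w, (Φ (ι g) : Matrix (Fin n) (Fin n) F) *ᵥ w = P *ᵥ (fromBlocks ((ι g).1 : Matrix (Fin k) (Fin k) F) 0 0
        ((ι g).2 : Matrix (Fin (n - k)) (Fin (n - k)) F) *ᵥ (Ps *ᵥ w)) from fun w => by
      rw [← hPsΦ, mulVec_mulVec (M := P), h2, one_mulVec], show ∀ w, (Φ (ι g) : Matrix (Fin n) (Fin n) F) *ᵥ w = P *ᵥ (fromBlocks ((ι g).1 : Matrix (Fin k) (Fin k) F) 0 0
        ((ι g).2 : Matrix (Fin (n - k)) (Fin (n - k)) F) *ᵥ (Ps *ᵥ w)) from fun w => by
      rw [← hPsΦ, mulVec_mulVec (M := P), h2, one_mulVec], hform, hbl, hbl]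
    simp only [Sum.elim_comp_inl, Sum.elim_comp_inr]
    exact congrArg₂ (· + ·) (g.1.2 _ _) (g.2.2 _ _)
  let Ψ : ↥(GU k F q) × ↥(GU (n - k) F q) →*
      ↥((stabilizing (glToMat (Fin n) F) (W : Set (Fin n → F))).subgroupOf (GU n F q)) :=
    ((Φ.comp ι).codRestrict (GU n F q) hgu).codRestrict _ fun g => hstab (ι g)
  refine ⟨(MulEquiv.ofBijective Ψ ⟨fun g g' h => ?_, fun h => ?_⟩).symm⟩
  · have h3 : Φ (ι g) = Φ (ι g') := congrArg (fun z => z.1.1) h
    have h4 := congrArg (fun X : GL (Fin n) F => Ps * (X : Matrix (Fin n) (Fin n) F) * P) h3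
    simp only [hΦ, ← Matrix.mul_assoc, h1, Matrix.one_mul] at h4
    simp only [Matrix.mul_assoc, h1, Matrix.mul_one] at h4
    rw [fromBlocks_inj] at h4
    exact Prod.ext (Subtype.ext (Units.ext h4.1)) (Subtype.ext (Units.ext h4.2.2.2))
  · -- blocks of a stabilising isometry
    have blocks : ∀ x : GL (Fin n) F, x ∈ GU n F q →
        x ∈ stabilizing (glToMat (Fin n) F) (W : Set (Fin n → F)) →
        (Ps * (x : Matrix (Fin n) (Fin n) F) * P).toBlocks₁₂ = 0 ∧
          (Ps * (x : Matrix (Fin n) (Fin n) F) * P).toBlocks₂₁ = 0 := by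
      intro x hxU hxW
      have hcol : ∀ s t, (Ps * (x : Matrix (Fin n) (Fin n) F) * P) s t =
          (Ps *ᵥ ((x : Matrix (Fin n) (Fin n) F) *ᵥ (P *ᵥ Pi.single t 1))) s := fun s t => by
        rw [mulVec_mulVec, mulVec_mulVec, mulVec_single_one]; rfl
      have hinlW : ∀ s : Fin k, P *ᵥ Pi.single (Sum.inl s) 1 ∈ W := fun s => by
        rw [hmem]; intro t; rw [mulVec_mulVec, h1, one_mulVec]; simp
      constructor
      · ext s t
        show (Ps * (x : Matrix (Fin n) (Fin n) F) * P) (.inl s) (.inr t) = 0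
        rw [hcol]
        obtain ⟨w₀, hw₀, hw₀x⟩ : ∃ w₀ ∈ W, (x : Matrix (Fin n) (Fin n) F) *ᵥ w₀ =
            P *ᵥ Pi.single (Sum.inl s) 1 := by
          refine ⟨((x⁻¹ : GL (Fin n) F) : Matrix (Fin n) (Fin n) F) *ᵥ (P *ᵥ Pi.single (Sum.inl s) 1),
            (hxW _).mpr ?_, ?_⟩
          · show (x : Matrix (Fin n) (Fin n) F) *ᵥ _ ∈ W
            rw [mulVec_mulVec _ (x : Matrix (Fin n) (Fin n) F), Units.mul_inv, one_mulVec]
            exact hinlW s
          · rw [mulVec_mulVec _ (x : Matrix (Fin n) (Fin n) F), Units.mul_inv, one_mulVec]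
        set y := (x : Matrix (Fin n) (Fin n) F) *ᵥ (P *ᵥ Pi.single (Sum.inr t) 1) with hy
        have e1 : hermForm n F q y (P *ᵥ Pi.single (Sum.inl s) 1) =
            hermForm n F q (P *ᵥ Pi.single (Sum.inr t) 1) w₀ := by
          rw [← hw₀x, hy]; exact hxU _ _
        have hr : ∀ t', (Ps *ᵥ w₀) (.inr t') = 0 := (hmem w₀).mp hw₀
        rw [show y = P *ᵥ (Ps *ᵥ y) by rw [mulVec_mulVec, h2, one_mulVec],
          show w₀ = P *ᵥ (Ps *ᵥ w₀) by rw [mulVec_mulVec, h2, one_mulVec], hform, hform] at e1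
        simp only [hermForm, Function.comp_apply, hr, zero_pow hq0, mul_zero, Finset.sum_const_zero,
          add_zero, Pi.single_apply, reduceCtorEq, if_false, zero_mul, Sum.inl.injEq, ite_pow, one_pow,
          mul_ite, mul_one, Finset.sum_ite_eq', Finset.mem_univ, if_true] at e1
        exact e1
      · ext s t
        show (Ps * (x : Matrix (Fin n) (Fin n) F) * P) (.inr s) (.inl t) = 0
        rw [hcol]
        exact (hmem _).mp ((hxW _).mp (hinlW t)) s
    obtain ⟨⟨x, hxU⟩, hxW⟩ := h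
    have hxW' : x ∈ stabilizing (glToMat (Fin n) F) (W : Set (Fin n → F)) := hxW
    obtain ⟨hB1, hC1⟩ := blocks x hxU hxW'
    obtain ⟨hB2, hC2⟩ := blocks x⁻¹ (inv_mem hxU) (inv_mem hxW')
    set M := Ps * (x : Matrix (Fin n) (Fin n) F) * P with hMdef
    set M' := Ps * ((x⁻¹ : GL (Fin n) F) : Matrix (Fin n) (Fin n) F) * P with hM'def
    have hdiag : ∀ N : Matrix (Fin k ⊕ Fin (n - k)) (Fin k ⊕ Fin (n - k)) F, N.toBlocks₁₂ = 0 →
        N.toBlocks₂₁ = 0 → N = fromBlocks N.toBlocks₁₁ 0 0 N.toBlocks₂₂ := fun N e1 e2 => by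
      conv_lhs => rw [← fromBlocks_toBlocks N, e1, e2]
    have conj : ∀ X Y : Matrix (Fin n) (Fin n) F, Ps * X * P * (Ps * Y * P) = Ps * (X * Y) * P :=
      fun X Y => by
      calc Ps * X * P * (Ps * Y * P) = Ps * X * (P * Ps) * Y * P := by simp only [Matrix.mul_assoc]
        _ = Ps * (X * Y) * P := by rw [h2, Matrix.mul_one]; simp only [Matrix.mul_assoc]
    have hMM : M * M' = 1 := by
      rw [hMdef, hM'def, conj, Units.mul_inv, Matrix.mul_one, h1]
    have hMM' : M' * M = 1 := by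
      rw [hMdef, hM'def, conj, Units.inv_mul, Matrix.mul_one, h1]
    rw [hdiag M hB1 hC1, hdiag M' hB2 hC2, fromBlocks_multiply, ← fromBlocks_one, fromBlocks_inj] at hMM
    rw [hdiag M hB1 hC1, hdiag M' hB2 hC2, fromBlocks_multiply, ← fromBlocks_one, fromBlocks_inj] at hMM'
    simp only [Matrix.mul_zero, Matrix.zero_mul, add_zero, zero_add] at hMM hMM'
    let a : GL (Fin k) F := ⟨M.toBlocks₁₁, M'.toBlocks₁₁, hMM.1, hMM'.1⟩
    let d : GL (Fin (n - k)) F := ⟨M.toBlocks₂₂, M'.toBlocks₂₂, hMM.2.2.2, hMM'.2.2.2⟩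
    have hval : (Φ (a, d) : Matrix (Fin n) (Fin n) F) = x := by
      rw [hΦ]
      show P * fromBlocks M.toBlocks₁₁ 0 0 M.toBlocks₂₂ * Ps = _
      rw [← hdiag M hB1 hC1, hMdef]
      calc P * (Ps * (x : Matrix (Fin n) (Fin n) F) * P) * Ps = (P * Ps) * (x : Matrix (Fin n) (Fin n) F) * (P * Ps) := by
            simp only [Matrix.mul_assoc]
        _ = (x : Matrix (Fin n) (Fin n) F) := by rw [h2, Matrix.one_mul, Matrix.mul_one]
    have hMx : ∀ u, P *ᵥ (fromBlocks (a : Matrix (Fin k) (Fin k) F) 0 0 (d : Matrix (Fin (n - k)) (Fin (n - k)) F) *ᵥ u) =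
        (x : Matrix (Fin n) (Fin n) F) *ᵥ (P *ᵥ u) := fun u => by
      rw [← hval, hΦ, mulVec_mulVec, mulVec_mulVec, Matrix.mul_assoc, Matrix.mul_assoc, h1, Matrix.mul_one]
    have hpres : ∀ u v, hermForm k F q ((a : Matrix (Fin k) (Fin k) F) *ᵥ (u ∘ Sum.inl)) ((a : Matrix (Fin k) (Fin k) F) *ᵥ (v ∘ Sum.inl)) +
        hermForm (n - k) F q ((d : Matrix (Fin (n - k)) (Fin (n - k)) F) *ᵥ (u ∘ Sum.inr)) ((d : Matrix (Fin (n - k)) (Fin (n - k)) F) *ᵥ (v ∘ Sum.inr)) =
        hermForm k F q (u ∘ Sum.inl) (v ∘ Sum.inl) + hermForm (n - k) F q (u ∘ Sum.inr) (v ∘ Sum.inr) := by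
      intro u v
      have e := hxU (P *ᵥ u) (P *ᵥ v)
      change hermForm n F q ((x : Matrix (Fin n) (Fin n) F) *ᵥ (P *ᵥ u))
        ((x : Matrix (Fin n) (Fin n) F) *ᵥ (P *ᵥ v)) = _ at e
      rw [← hMx, ← hMx, hform, hform, hbl (a, d), hbl (a, d)] at e
      simpa only [Sum.elim_comp_inl, Sum.elim_comp_inr] using e
    have ha : a ∈ GU k F q := fun u v => by
      have e := hpres (Sum.elim u 0) (Sum.elim v 0)
      simp only [Sum.elim_comp_inl, Sum.elim_comp_inr, mulVec_zero] at e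
      exact add_right_cancel e
    have hd : d ∈ GU (n - k) F q := fun u v => by
      have e := hpres (Sum.elim 0 u) (Sum.elim 0 v)
      simp only [Sum.elim_comp_inl, Sum.elim_comp_inr, mulVec_zero] at e
      exact add_left_cancel e
    exact ⟨(⟨a, ha⟩, ⟨d, hd⟩), Subtype.ext (Subtype.ext (Units.ext hval))⟩

end CfsgLib.CoordSub
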